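import Groth.Agent.Rigid.Lemma
import Mathlib.AlgebraicGeometry.Morphisms.SchemeTheoreticallyDominant
import Mathlib.FieldTheory.IsAlgClosed.AlgebraicClosure

/-!
Reduced connected geometric fibres are good fibres.
-/

set_option autoImplicit false
set_option backward.isDefEq.respectTransparency false
set_option backward.isDefEq.respectTransparency.types false
set_option linter.style.haveILetI false

universe u

open CategoryTheory CategoryTheory.Limits AlgebraicGeometry TopologicalSpace

namespace Groth.Agent.PicUnion

/-- Reduced connected geometric fibres are good. -/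
theorem goodFibres_of_algClosed {X T : Scheme.{u}} (g : X ⟶ T) [IsProper g] [Flat g]
    (h : ∀ (K : Type u) [Field K] [IsAlgClosed K] (y : Spec (CommRingCat.of K) ⟶ T),
      IsReduced (pullback g y) ∧ ConnectedSpace ↥(pullback g y)) : Rigid.GoodFibres g := by
  intro K _ y Z p q hsq s hs ψ hψ
  haveI : IsProper q := MorphismProperty.of_isPullback (P := @IsProper) hsq ‹_›
  haveI : Flat q := MorphismProperty.of_isPullback (P := @Flat) hsq ‹_›
  let Ω := AlgebraicClosure K
  let π : Spec (CommRingCat.of Ω) ⟶ Spec (CommRingCat.of K) :=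
    Spec.map (CommRingCat.ofHom (algebraMap K Ω))
  haveI : Surjective π := ⟨fun z => by
    obtain ⟨w⟩ : Nonempty (Spec (CommRingCat.of Ω)) := inferInstanceAs (Nonempty (PrimeSpectrum Ω))
    exact ⟨w, Subsingleton.elim (α := PrimeSpectrum K) _ _⟩⟩
  haveI : IsSchemeTheoreticallyDominant π := IsSchemeTheoreticallyDominant.of_isDominant π
  let P := pullback π q
  let c : P ⟶ Z := pullback.snd π q
  let q' : P ⟶ Spec (CommRingCat.of Ω) := pullback.fst π q
  have hc : IsPullback c q' q π := (IsPullback.of_hasPullback π q).flip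
  haveI : IsProper q' := MorphismProperty.of_isPullback (P := @IsProper) hc ‹_›
  let e : P ≅ pullback g (π ≫ y) := (hc.paste_horiz hsq).isoPullback
  obtain ⟨h1, h2⟩ := h Ω (π ≫ y)
  haveI := h1
  haveI := h2
  haveI : IsReduced P := isReduced_of_isOpenImmersion e.hom
  haveI : ConnectedSpace P := e.inv.surjective.connectedSpace e.inv.continuous
  let s' : Spec (CommRingCat.of Ω) ⟶ P := hc.lift (π ≫ s) (𝟙 _) (by rw [Category.assoc, hs]; simp)
  have hs' : s' ≫ q' = 𝟙 _ := hc.lift_snd _ _ _
  refine (injective_iff_map_eq_zero c.appTop.hom).1 (c.app_injective ⊤) ψ ?_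
  refine Rigid.eq_zero_of_section_field q' s' hs' _ ?_
  have h3 : s' ≫ c = π ≫ s := hc.lift_fst _ _ _
  have h4 := congrArg (fun m => m.appTop ψ) h3
  simp only [Scheme.Hom.comp_appTop, CommRingCat.comp_apply] at h4
  exact h4.trans (by rw [hψ, map_zero])

end Groth.Agent.PicUnion
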