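import Groth.Agent.Nakai.PullIdeal
import Groth.Agent.CocycleGlue.Basic
import Groth.Agent.ExtFund.DetSES
import Groth.Agent.TMul.Pullback

/-!
Sections of the structure sheaf and invertible modules on the union of two closed subschemes.
-/

set_option autoImplicit false
set_option backward.isDefEq.respectTransparency false
set_option backward.isDefEq.respectTransparency.types false
set_option linter.style.haveILetI false
set_option maxHeartbeats 1000000

universe u

open CategoryTheory CategoryTheory.Limits AlgebraicGeometry TopologicalSpace Opposite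
open Groth.Agent.QC (res resO res_res res_smul resO_resO res_self resO_self app_res section_eq_of_locally)
open TMul (IsGen)

noncomputable section

namespace Groth.Agent.PicUnion

variable {X : Scheme.{u}}

lemma app_resO {Y : Scheme.{u}} (f : Y ⟶ X) {V U : X.Opens} (h : V ≤ U) (r : Γ(X, U)) :
    (f.app V).hom (resO X h r) = resO Y (f.preimage_mono h) ((f.app U).hom r) :=
  congr($(f.naturality (homOfLE h).op) r)

lemma sec_eq_of_locally {U : X.Opens} {r r' : Γ(X, U)}
    (h : ∀ x ∈ U, ∃ (V : X.Opens) (hV : V ≤ U), x ∈ V ∧ resO X hV r = resO X hV r') : r = r' :=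
  section_eq_of_locally (M := Coh.structureModule X) (s := r) (t := r') h

/-- Glueing functions along a cover. -/
theorem exists_glue {ι : Type u} (U : ι → X.Opens) (V : X.Opens) (hle : ∀ i, U i ≤ V) (hcov : V ≤ ⨆ i, U i)
    (r : ∀ i, Γ(X, U i))
    (h : ∀ (i i' : ι) (O : X.Opens) (h₁ : O ≤ U i) (h₂ : O ≤ U i'), resO X h₁ (r i) = resO X h₂ (r i')) :
    ∃ s : Γ(X, V), ∀ i, resO X (hle i) s = r i := by
  obtain ⟨s, hs, -⟩ := X.sheaf.existsUnique_gluing' U V (fun i => homOfLE (hle i)) hcov r fun i i' =>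
    h i i' (U i ⊓ U i') inf_le_left inf_le_right
  exact ⟨s, hs⟩

section Gen

variable {Y : Scheme.{u}} {M N : Y.Modules}

/-- A multiple of a generator which generates is a unit multiple. -/
theorem isUnit_of_gen {U : Y.Opens} {e : Γ(M, U)} (he : IsGen e) {r : Γ(Y, U)} (h : IsGen (r • e)) :
    IsUnit r := by
  obtain ⟨c, hc⟩ := (h U le_rfl).2 e
  simp only [res_self, smul_smul] at hc
  refine IsUnit.of_mul_eq_one_right c ?_
  refine (he U le_rfl).1 ?_
  simp only [res_self, one_smul]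
  exact hc

/-- Unit multiples of generators generate. -/
theorem isGen_smul_unit {U : Y.Opens} {e : Γ(M, U)} (he : IsGen e) {r : Γ(Y, U)} (hr : IsUnit r) :
    IsGen (r • e) := fun V hV => by
  have : (fun c : Γ(Y, V) => c • res M hV (r • e)) =
      (fun c : Γ(Y, V) => c • res M hV e) ∘ fun c => c * resO Y hV r := funext fun c => by
    simp only [Function.comp_apply, res_smul, smul_smul]
  rw [this]
  exact (he V hV).comp (hr.map (resO Y hV)).unit.mulRight.bijective

/-- Isomorphisms preserve generators. -/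
theorem isGen_app (φ : M ≅ N) {U : Y.Opens} {e : Γ(M, U)} (he : IsGen e) : IsGen (φ.hom.app U e) := fun V hV => by
  have : (fun c : Γ(Y, V) => c • res N hV (φ.hom.app U e)) =
      (fun m => φ.hom.app V m) ∘ fun c : Γ(Y, V) => c • res M hV e := funext fun c => by
    simp only [Function.comp_apply, Scheme.Modules.Hom.app_smul, app_res]
  rw [this]
  refine Function.Bijective.comp ?_ (he V hV)
  have k₁ : ∀ m, φ.inv.app V (φ.hom.app V m) = m := fun m => congr(($(φ.hom_inv_id)).app V m)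
  have k₂ : ∀ m, φ.hom.app V (φ.inv.app V m) = m := fun m => congr(($(φ.inv_hom_id)).app V m)
  exact Function.bijective_iff_has_inverse.2 ⟨fun m => φ.inv.app V m, k₁, k₂⟩

end Gen

variable (I J : X.IdealSheafData)

/-- the intersection of the two pieces -/
abbrev W : Scheme.{u} := (I ⊔ J).subscheme

/-- the intersection in the union -/
abbrev wι : W I J ⟶ X := (I ⊔ J).subschemeι

/-- the intersection in the first piece -/
abbrev aW : W I J ⟶ I.subscheme := Scheme.IdealSheafData.inclusion (le_sup_left : I ≤ I ⊔ J)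

/-- the intersection in the second piece -/
abbrev bW : W I J ⟶ J.subscheme := Scheme.IdealSheafData.inclusion (le_sup_right : J ≤ I ⊔ J)

lemma aW_ι : aW I J ≫ I.subschemeι = wι I J := Scheme.IdealSheafData.inclusion_subschemeι _

lemma bW_ι : bW I J ≫ J.subschemeι = wι I J := Scheme.IdealSheafData.inclusion_subschemeι _

theorem app_of_comp_eq {A B C : Scheme.{u}} {f : A ⟶ B} {g : B ⟶ C} {h : A ⟶ C} (e : f ≫ g = h) (U : C.Opens)
    (hle : h ⁻¹ᵁ U ≤ f ⁻¹ᵁ (g ⁻¹ᵁ U)) : g.app U ≫ f.appLE (g ⁻¹ᵁ U) (h ⁻¹ᵁ U) hle = h.app U := by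
  subst e
  rw [Scheme.Hom.app_eq_appLE, Scheme.Hom.appLE_comp_appLE, Scheme.Hom.app_eq_appLE]

lemma wle_left (U : X.Opens) : (wι I J) ⁻¹ᵁ U ≤ (aW I J) ⁻¹ᵁ (I.subschemeι ⁻¹ᵁ U) := by
  rw [← Scheme.Hom.comp_preimage]
  first | rw [aW_ι] | rw [bW_ι]

lemma wle_right (U : X.Opens) : (wι I J) ⁻¹ᵁ U ≤ (bW I J) ⁻¹ᵁ (J.subschemeι ⁻¹ᵁ U) := by
  rw [← Scheme.Hom.comp_preimage]
  first | rw [aW_ι] | rw [bW_ι]

/-- restriction to the intersection from the first piece -/
def toL (U : X.Opens) : Γ(I.subscheme, I.subschemeι ⁻¹ᵁ U) →+* Γ(W I J, (wι I J) ⁻¹ᵁ U) :=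
  (Scheme.Hom.appLE (aW I J) (I.subschemeι ⁻¹ᵁ U) ((wι I J) ⁻¹ᵁ U) (wle_left I J U)).hom

/-- restriction to the intersection from the second piece -/
def toR (U : X.Opens) : Γ(J.subscheme, J.subschemeι ⁻¹ᵁ U) →+* Γ(W I J, (wι I J) ⁻¹ᵁ U) :=
  (Scheme.Hom.appLE (bW I J) (J.subschemeι ⁻¹ᵁ U) ((wι I J) ⁻¹ᵁ U) (wle_right I J U)).hom

lemma toL_app {U : X.Opens} (r : Γ(X, U)) : toL I J U ((I.subschemeι.app U).hom r) = (Scheme.Hom.app (wι I J) U).hom r :=
  congr($(app_of_comp_eq (aW_ι I J) U (wle_left I J U)) r)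

lemma toR_app {U : X.Opens} (r : Γ(X, U)) : toR I J U ((J.subschemeι.app U).hom r) = (Scheme.Hom.app (wι I J) U).hom r :=
  congr($(app_of_comp_eq (bW_ι I J) U (wle_right I J U)) r)

lemma toL_res {V U : X.Opens} (h : V ≤ U) (y : Γ(I.subscheme, I.subschemeι ⁻¹ᵁ U)) :
    toL I J V (resO I.subscheme (I.subschemeι.preimage_mono h) y) = resO (W I J) (Scheme.Hom.preimage_mono (wι I J) h) (toL I J U y) := by
  simp only [toL, resO, ← ConcreteCategory.comp_apply, ← CommRingCat.comp_apply]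
  rw [Scheme.Hom.map_appLE, Scheme.Hom.appLE_map]

lemma toR_res {V U : X.Opens} (h : V ≤ U) (y : Γ(J.subscheme, J.subschemeι ⁻¹ᵁ U)) :
    toR I J V (resO J.subscheme (J.subschemeι.preimage_mono h) y) = resO (W I J) (Scheme.Hom.preimage_mono (wι I J) h) (toR I J U y) := by
  simp only [toR, resO, ← ConcreteCategory.comp_apply, ← CommRingCat.comp_apply]
  rw [Scheme.Hom.map_appLE, Scheme.Hom.appLE_map]

variable {I J}

/-- functions are determined by their restrictions to the pieces -/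
theorem sec_ext (hIJ : I ⊓ J = ⊥) {U : X.Opens} {r r' : Γ(X, U)}
    (h₁ : (I.subschemeι.app U).hom r = (I.subschemeι.app U).hom r')
    (h₂ : (J.subschemeι.app U).hom r = (J.subschemeι.app U).hom r') : r = r' := by
  refine sec_eq_of_locally fun x hx => ?_
  obtain ⟨V, hV, hxV, hVU⟩ := exists_isAffineOpen_mem_and_subset (x := x) (U := U) hx
  replace hVU : V ≤ U := hVU
  refine ⟨V, hVU, hxV, sub_eq_zero.1 ?_⟩
  have hI : resO X hVU r - resO X hVU r' ∈ I.ideal ⟨V, hV⟩ := by
    rw [← Scheme.IdealSheafData.ker_subschemeι_app, RingHom.mem_ker, map_sub, app_resO, app_resO, h₁, sub_self]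
  have hJ : resO X hVU r - resO X hVU r' ∈ J.ideal ⟨V, hV⟩ := by
    rw [← Scheme.IdealSheafData.ker_subschemeι_app, RingHom.mem_ker, map_sub, app_resO, app_resO, h₂, sub_self]
  have h : resO X hVU r - resO X hVU r' ∈ (I ⊓ J).ideal ⟨V, hV⟩ := by
    rw [Scheme.IdealSheafData.ideal_inf]
    exact ⟨hI, hJ⟩
  rw [hIJ, Scheme.IdealSheafData.ideal_bot] at h
  exact h

/-- functions on the pieces agreeing on the intersection glue -/
theorem sec_glue (hIJ : I ⊓ J = ⊥) {U : X.Opens} (y : Γ(I.subscheme, I.subschemeι ⁻¹ᵁ U))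
    (z : Γ(J.subscheme, J.subschemeι ⁻¹ᵁ U)) (h : toL I J U y = toR I J U z) :
    ∃ r : Γ(X, U), (I.subschemeι.app U).hom r = y ∧ (J.subschemeι.app U).hom r = z := by
  have hloc : ∀ V : {V : X.affineOpens // V.1 ≤ U}, ∃ r : Γ(X, V.1.1),
      (I.subschemeι.app V.1.1).hom r = resO I.subscheme (I.subschemeι.preimage_mono V.2) y ∧
        (J.subschemeι.app V.1.1).hom r = resO J.subscheme (J.subschemeι.preimage_mono V.2) z := by
    rintro ⟨V, hVU⟩
    obtain ⟨r₁, hr₁⟩ := I.subschemeι_app_surjective V (resO I.subscheme (I.subschemeι.preimage_mono hVU) y)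
    obtain ⟨r₂, hr₂⟩ := J.subschemeι_app_surjective V (resO J.subscheme (J.subschemeι.preimage_mono hVU) z)
    change (I.subschemeι.app V.1).hom r₁ = _ at hr₁
    change (J.subschemeι.app V.1).hom r₂ = _ at hr₂
    have e : (Scheme.Hom.app (wι I J) V.1).hom r₁ = (Scheme.Hom.app (wι I J) V.1).hom r₂ := by
      rw [← toL_app, ← toR_app, hr₁, hr₂, toL_res (h := hVU), toR_res (h := hVU), h]
    have hm : r₁ - r₂ ∈ (I ⊔ J).ideal V := by
      rw [← Scheme.IdealSheafData.ker_subschemeι_app, RingHom.mem_ker, map_sub, e, sub_self]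
    rw [Scheme.IdealSheafData.ideal_sup, Pi.sup_apply, Submodule.mem_sup] at hm
    obtain ⟨p, hp, q, hq, hpq⟩ := hm
    rw [← Scheme.IdealSheafData.ker_subschemeι_app, RingHom.mem_ker] at hp hq
    refine ⟨r₁ - p, by rw [map_sub, hr₁, hp, sub_zero], ?_⟩
    rw [show r₁ - p = r₂ + q by linear_combination -hpq, map_add, hr₂, hq, add_zero]
  choose r hrY hrZ using hloc
  have hcov : U ≤ ⨆ V : {V : X.affineOpens // V.1 ≤ U}, V.1.1 := fun x hx => by
    obtain ⟨V, hV, hxV, hVU⟩ := exists_isAffineOpen_mem_and_subset (x := x) (U := U) hx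
    exact Opens.mem_iSup.2 ⟨⟨⟨V, hV⟩, hVU⟩, hxV⟩
  obtain ⟨s, hs⟩ := exists_glue (fun V : {V : X.affineOpens // V.1 ≤ U} => V.1.1) U (fun V => V.2) hcov r
    fun V V' O h₁ h₂ => sec_ext hIJ (by rw [app_resO, app_resO, hrY, hrY, resO_resO, resO_resO])
      (by rw [app_resO, app_resO, hrZ, hrZ, resO_resO, resO_resO])
  refine ⟨s, sec_eq_of_locally fun x hx => ?_, sec_eq_of_locally fun x hx => ?_⟩
  · obtain ⟨V, hV, hxV, hVU⟩ := exists_isAffineOpen_mem_and_subset (x := I.subschemeι x) (U := U) hx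
    refine ⟨I.subschemeι ⁻¹ᵁ V, I.subschemeι.preimage_mono hVU, hxV, ?_⟩
    rw [← app_resO (h := hVU), hs ⟨⟨V, hV⟩, hVU⟩]
    exact hrY ⟨⟨V, hV⟩, hVU⟩
  · obtain ⟨V, hV, hxV, hVU⟩ := exists_isAffineOpen_mem_and_subset (x := J.subschemeι x) (U := U) hx
    refine ⟨J.subschemeι ⁻¹ᵁ V, J.subschemeι.preimage_mono hVU, hxV, ?_⟩
    rw [← app_resO (h := hVU), hs ⟨⟨V, hV⟩, hVU⟩]
    exact hrZ ⟨⟨V, hV⟩, hVU⟩

/-- units on the pieces agreeing on the intersection glue to a unit -/
theorem isUnit_of_restrict (hIJ : I ⊓ J = ⊥) {U : X.Opens} {r : Γ(X, U)}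
    (h₁ : IsUnit ((I.subschemeι.app U).hom r)) (h₂ : IsUnit ((J.subschemeι.app U).hom r)) : IsUnit r := by
  obtain ⟨u, hu⟩ := h₁.exists_right_inv
  obtain ⟨v, hv⟩ := h₂.exists_right_inv
  have huv : toL I J U u = toR I J U v := by
    have e₁ := congrArg (toL I J U) hu
    have e₂ := congrArg (toR I J U) hv
    rw [map_mul, map_one, toL_app] at e₁
    rw [map_mul, map_one, toR_app] at e₂
    exact left_inv_eq_right_inv (by rw [mul_comm]; exact e₁) e₂
  obtain ⟨s, hs₁, hs₂⟩ := sec_glue hIJ u v huv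
  exact IsUnit.of_mul_eq_one s (sec_ext hIJ (by rw [map_mul, map_one, hs₁, hu]) (by rw [map_mul, map_one, hs₂, hv]))

end Groth.Agent.PicUnion
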