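import Groth.Agent.PicUnion.Glue
import Groth.Agent.Castel.Descend

/-!
Invertible modules on the union of two closed subschemes.
-/

set_option autoImplicit false
set_option backward.isDefEq.respectTransparency false
set_option backward.isDefEq.respectTransparency.types false
set_option linter.style.haveILetI false
set_option maxHeartbeats 1000000

universe u

open CategoryTheory CategoryTheory.Limits AlgebraicGeometry TopologicalSpace Opposite
open Groth.Agent.QC (res resO res_res res_smul resO_resO res_self resO_self app_res section_eq_of_locally)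
open TMul (IsGen)
open OmegaSh (pullSect pullSect_smul pullSect_map)

noncomputable section

namespace Groth.Agent.PicUnion

variable {X : Scheme.{u}}

lemma pullSect_res {Y : Scheme.{u}} (f : Y ⟶ X) (M : X.Modules) {V U : X.Opens} (h : V ≤ U) (m : Γ(M, U)) :
    pullSect f M V (res M h m) = res _ (f.preimage_mono h) (pullSect f M U m) :=
  pullSect_map f M h m

theorem isUnit_of_gen_structure {Y : Scheme.{u}} {U : Y.Opens} {a : Γ(Y, U)}
    (h : IsGen (N := Coh.structureModule Y) (U := U) a) : IsUnit a := by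
  obtain ⟨c, hc⟩ := (h U le_rfl).2 (1 : Γ(Y, U))
  change c * resO Y le_rfl a = 1 at hc
  rw [resO_self] at hc
  exact IsUnit.of_mul_eq_one_right c hc

theorem isGen_structure_of_isUnit {Y : Scheme.{u}} {U : Y.Opens} {a : Γ(Y, U)} (h : IsUnit a) :
    IsGen (N := Coh.structureModule Y) (U := U) a := fun V hV =>
  (h.map (resO Y hV)).unit.mulRight.bijective

lemma resO_of_eq {U V : X.Opens} (h : V ≤ U) (r : Γ(X, U)) :
    res (Coh.structureModule X) h r = resO X h r := rfl

variable (I J : X.IdealSheafData)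

/-- a section on the first piece restricted to the intersection -/
def pL (M : I.subscheme.Modules) {U : X.Opens} (s : Γ(M, I.subschemeι ⁻¹ᵁ U)) :
    Γ((Scheme.Modules.pullback (aW I J)).obj M, wι I J ⁻¹ᵁ U) :=
  res _ (wle_left I J U) (pullSect (aW I J) M (I.subschemeι ⁻¹ᵁ U) s)

/-- a section on the second piece restricted to the intersection -/
def pR (M : J.subscheme.Modules) {U : X.Opens} (s : Γ(M, J.subschemeι ⁻¹ᵁ U)) :
    Γ((Scheme.Modules.pullback (bW I J)).obj M, wι I J ⁻¹ᵁ U) :=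
  res _ (wle_right I J U) (pullSect (bW I J) M (J.subschemeι ⁻¹ᵁ U) s)

lemma pL_smul (M : I.subscheme.Modules) {U : X.Opens} (r : Γ(I.subscheme, I.subschemeι ⁻¹ᵁ U))
    (s : Γ(M, I.subschemeι ⁻¹ᵁ U)) : pL I J M (r • s) = toL I J U r • pL I J M s := by
  rw [pL, pullSect_smul, res_smul]
  rfl

lemma pR_smul (M : J.subscheme.Modules) {U : X.Opens} (r : Γ(J.subscheme, J.subschemeι ⁻¹ᵁ U))
    (s : Γ(M, J.subschemeι ⁻¹ᵁ U)) : pR I J M (r • s) = toR I J U r • pR I J M s := by
  rw [pR, pullSect_smul, res_smul]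
  rfl

lemma pL_res (M : I.subscheme.Modules) {V U : X.Opens} (h : V ≤ U) (s : Γ(M, I.subschemeι ⁻¹ᵁ U)) :
    pL I J M (res M (I.subschemeι.preimage_mono h) s) = res _ ((wι I J).preimage_mono h) (pL I J M s) := by
  rw [pL, pL, pullSect_res, res_res, res_res]

lemma pR_res (M : J.subscheme.Modules) {V U : X.Opens} (h : V ≤ U) (s : Γ(M, J.subschemeι ⁻¹ᵁ U)) :
    pR I J M (res M (J.subschemeι.preimage_mono h) s) = res _ ((wι I J).preimage_mono h) (pR I J M s) := by
  rw [pR, pR, pullSect_res, res_res, res_res]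

lemma isGen_pL {M : I.subscheme.Modules} (hM : PicF.IsInvertible M) {U : X.Opens}
    {s : Γ(M, I.subschemeι ⁻¹ᵁ U)} (hs : IsGen s) : IsGen (pL I J M s) :=
  (Nakai.isGen_pullSect (aW I J) hM hs).res _

lemma isGen_pR {M : J.subscheme.Modules} (hM : PicF.IsInvertible M) {U : X.Opens}
    {s : Γ(M, J.subschemeι ⁻¹ᵁ U)} (hs : IsGen s) : IsGen (pR I J M s) :=
  (Nakai.isGen_pullSect (bW I J) hM hs).res _

variable {I J}

theorem aux {R : Type u} [CommRing R] (A B B' C C' r : R) (hB : B * B' = 1) (hC : C * C' = 1) (h : C = r * B) :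
    A * B' = r * A * C' := by
  calc A * B' = A * B' * (C * C') := by rw [hC, mul_one]
    _ = r * A * C' * (B * B') := by rw [h]; ring
    _ = r * A * C' := by rw [hB, mul_one]

/-- **triviality**: trivial on both pieces and all units on the intersection extend -/
theorem nonempty_iso_structure (hIJ : I ⊓ J = ⊥)
    (hlift : ∀ u : Γ(W I J, ⊤), IsUnit u → ∃ v : Γ(J.subscheme, ⊤), IsUnit v ∧ (bW I J).appTop.hom v = u)
    {L : X.Modules} (hL : PicF.IsInvertible L)
    (eY : (Scheme.Modules.pullback I.subschemeι).obj L ≅ Coh.structureModule I.subscheme)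
    (eZ : (Scheme.Modules.pullback J.subschemeι).obj L ≅ Coh.structureModule J.subscheme) :
    Nonempty (L ≅ Coh.structureModule X) := by
  choose U g hxU hg using fun x : X => TMul.exists_isGen hL x
  let a : ∀ x, Γ(I.subscheme, I.subschemeι ⁻¹ᵁ U x) :=
    fun x => eY.hom.app (I.subschemeι ⁻¹ᵁ U x) (pullSect I.subschemeι L (U x) (g x))
  let b : ∀ x, Γ(J.subscheme, J.subschemeι ⁻¹ᵁ U x) :=
    fun x => eZ.hom.app (J.subschemeι ⁻¹ᵁ U x) (pullSect J.subschemeι L (U x) (g x))
  have ha : ∀ x, IsUnit (a x) := fun x =>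
    isUnit_of_gen_structure (isGen_app eY (Nakai.isGen_pullSect I.subschemeι hL (hg x)))
  have hb : ∀ x, IsUnit (b x) := fun x =>
    isUnit_of_gen_structure (isGen_app eZ (Nakai.isGen_pullSect J.subschemeι hL (hg x)))
  have hrel : ∀ p q (V : X.Opens) (hp : V ≤ U p) (hq : V ≤ U q) (r : Γ(X, V)),
      res L hq (g q) = r • res L hp (g p) →
        resO I.subscheme (I.subschemeι.preimage_mono hq) (a q) =
          (I.subschemeι.app V).hom r * resO I.subscheme (I.subschemeι.preimage_mono hp) (a p) ∧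
        resO J.subscheme (J.subschemeι.preimage_mono hq) (b q) =
          (J.subschemeι.app V).hom r * resO J.subscheme (J.subschemeι.preimage_mono hp) (b p) := by
    intro p q V hp hq r hr
    have e₁ := congrArg (fun m => eY.hom.app (I.subschemeι ⁻¹ᵁ V) (pullSect I.subschemeι L V m)) hr
    have e₂ := congrArg (fun m => eZ.hom.app (J.subschemeι ⁻¹ᵁ V) (pullSect J.subschemeι L V m)) hr
    simp only [pullSect_smul, pullSect_res, Scheme.Modules.Hom.app_smul, ← app_res] at e₁ e₂
    exact ⟨e₁, e₂⟩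
  choose a' ha' using fun x => (ha x).exists_right_inv
  choose b' hb' using fun x => (hb x).exists_right_inv
  let ρ : ∀ x, Γ(W I J, wι I J ⁻¹ᵁ U x) := fun x => toL I J (U x) (a x) * toR I J (U x) (b' x)
  let ρ' : ∀ x, Γ(W I J, wι I J ⁻¹ᵁ U x) := fun x => toR I J (U x) (b x) * toL I J (U x) (a' x)
  have hρρ : ∀ x, ρ x * ρ' x = 1 := fun x => by
    calc ρ x * ρ' x = toL I J (U x) (a x * a' x) * toR I J (U x) (b x * b' x) := by
          simp only [ρ, ρ', map_mul]; ring
      _ = 1 := by rw [ha', hb', map_one, map_one, one_mul]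
  have hagree : ∀ p q (O : (W I J).Opens) (h₁ : O ≤ wι I J ⁻¹ᵁ U p) (h₂ : O ≤ wι I J ⁻¹ᵁ U q),
      resO (W I J) h₁ (ρ p) = resO (W I J) h₂ (ρ q) := by
    intro p q O h₁ h₂
    have hV : O ≤ wι I J ⁻¹ᵁ (U p ⊓ U q) := le_inf h₁ h₂
    suffices h : resO (W I J) ((wι I J).preimage_mono inf_le_left) (ρ p) =
        resO (W I J) ((wι I J).preimage_mono inf_le_right) (ρ q) by
      have := congrArg (resO (W I J) hV) h
      rwa [resO_resO, resO_resO] at this
    obtain ⟨r, hr⟩ := (hg p (U p ⊓ U q) inf_le_left).2 (res L inf_le_right (g q))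
    obtain ⟨r₁, r₂⟩ := hrel p q (U p ⊓ U q) inf_le_left inf_le_right r hr.symm
    have e₁ := congrArg (toL I J (U p ⊓ U q)) r₁
    have e₂ := congrArg (toR I J (U p ⊓ U q)) r₂
    rw [map_mul, toL_app, toL_res (h := (inf_le_right : U p ⊓ U q ≤ U q)), toL_res (h := (inf_le_left : U p ⊓ U q ≤ U p))] at e₁
    rw [map_mul, toR_app, toR_res (h := (inf_le_right : U p ⊓ U q ≤ U q)), toR_res (h := (inf_le_left : U p ⊓ U q ≤ U p))] at e₂
    have hbp : resO (W I J) ((wι I J).preimage_mono inf_le_left) (toR I J (U p) (b p)) *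
        resO (W I J) ((wι I J).preimage_mono (inf_le_left : U p ⊓ U q ≤ U p)) (toR I J (U p) (b' p)) = 1 := by
      rw [← map_mul, ← map_mul, hb', map_one, map_one]
    have hbq : resO (W I J) ((wι I J).preimage_mono inf_le_right) (toR I J (U q) (b q)) *
        resO (W I J) ((wι I J).preimage_mono (inf_le_right : U p ⊓ U q ≤ U q)) (toR I J (U q) (b' q)) = 1 := by
      rw [← map_mul, ← map_mul, hb', map_one, map_one]
    simp only [ρ, map_mul]
    rw [e₁]
    exact aux _ _ _ _ _ _ hbp hbq e₂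
  have hcov : (⊤ : (W I J).Opens) ≤ ⨆ x, wι I J ⁻¹ᵁ U x := fun z _ => Opens.mem_iSup.2 ⟨_, hxU (wι I J z)⟩
  obtain ⟨u, hu⟩ := exists_glue _ ⊤ (fun _ => le_top) hcov ρ hagree
  obtain ⟨u', hu'⟩ := exists_glue _ ⊤ (fun _ => le_top) hcov ρ' fun p q O h₁ h₂ => by
    have h3 : ∀ x (h : O ≤ wι I J ⁻¹ᵁ U x), resO (W I J) h (ρ x) * resO (W I J) h (ρ' x) = 1 := fun x h => by
      rw [← map_mul, hρρ, map_one]
    exact left_inv_eq_right_inv (by rw [mul_comm]; exact h3 p h₁) (hagree p q O h₁ h₂ ▸ h3 q h₂)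
  have huu : u * u' = 1 := sec_eq_of_locally fun z _ => ⟨wι I J ⁻¹ᵁ U (wι I J z), le_top, hxU _, by
    rw [map_mul, map_one, hu, hu', hρρ]⟩
  obtain ⟨v, hv, hvu⟩ := hlift u (IsUnit.of_mul_eq_one u' huu)
  have hvU : ∀ x, toR I J (U x) (resO J.subscheme le_top v) = ρ x := fun x => by
    rw [← hu x, ← hvu]
    simp only [toR, resO, ← ConcreteCategory.comp_apply, Scheme.Hom.appTop, Scheme.Hom.app_eq_appLE,
      Scheme.Hom.map_appLE, Scheme.Hom.appLE_map]
  have hf : ∀ x, ∃ f : Γ(X, U x), IsUnit f ∧ (I.subschemeι.app (U x)).hom f = a x ∧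
      (J.subschemeι.app (U x)).hom f = resO J.subscheme le_top v * b x := fun x => by
    obtain ⟨f, h₁, h₂⟩ := sec_glue hIJ (U := U x) (a x) (resO J.subscheme le_top v * b x) (by
      rw [map_mul, hvU]
      calc toL I J (U x) (a x) = toL I J (U x) (a x) * toR I J (U x) (b x * b' x) := by rw [hb', map_one, mul_one]
        _ = _ := by simp only [ρ, map_mul]; ring)
    exact ⟨f, isUnit_of_restrict hIJ (h₁ ▸ ha x) (h₂ ▸ (hv.map _).mul (hb x)), h₁, h₂⟩
  choose f hfu hfY hfZ using hf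
  refine ExtFund.nonempty_iso_of_gens U (fun x => ⟨x, hxU x⟩) g (fun x => (f x : Γ(X, U x))) hg
    (fun x => isGen_structure_of_isUnit (hfu x)) fun p q V hp hq r hr => ?_
  obtain ⟨r₁, r₂⟩ := hrel p q V hp hq r hr
  change resO X hq (f q) = r * resO X hp (f p)
  refine sec_ext hIJ ?_ ?_
  · rw [map_mul, app_resO (h := hq), app_resO (h := hp), hfY, hfY, r₁]
  · rw [map_mul, app_resO (h := hq), app_resO (h := hp), hfZ, hfZ, map_mul, map_mul, resO_resO, resO_resO, r₂]
    ring

/-- generators near a point on a closed subscheme -/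
theorem exists_gen_nbhd {Y : Scheme.{u}} (i : Y ⟶ X) [IsClosedImmersion i] {M : Y.Modules}
    (hM : PicF.IsInvertible M) (x : X) :
    ∃ (U : X.Opens) (s : Γ(M, i ⁻¹ᵁ U)), x ∈ U ∧ IsGen s := by
  by_cases hx : x ∈ Set.range i
  · obtain ⟨y, rfl⟩ := hx
    obtain ⟨V, s, hyV, hs⟩ := TMul.exists_isGen hM y
    obtain ⟨T, hT, hTV⟩ := i.isClosedEmbedding.isInducing.isOpen_iff.1 V.isOpen
    have hle : i ⁻¹ᵁ (⟨T, hT⟩ : X.Opens) ≤ V := fun z hz => show z ∈ (V : Set Y) from hTV ▸ hz
    exact ⟨⟨T, hT⟩, res M hle s, (hTV.symm ▸ hyV : y ∈ i ⁻¹' T), hs.res hle⟩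
  · obtain ⟨U, hxU, hU⟩ : ∃ U : X.Opens, x ∈ U ∧ ∀ y, i y ∉ U :=
      ⟨⟨(Set.range i)ᶜ, i.isClosedEmbedding.isClosed_range.isOpen_compl⟩, hx, fun y h => h ⟨y, rfl⟩⟩
    refine ⟨U, 0, hxU, fun V hV => ?_⟩
    have h₁ : ∀ r r' : Γ(Y, V), r = r' := fun r r' => sec_eq_of_locally fun z hz => absurd (hV hz) (hU z)
    have h₂ : ∀ m m' : Γ(M, V), m = m' := fun m m' =>
      section_eq_of_locally fun z hz => absurd (hV hz) (hU z)
    exact ⟨fun r r' _ => h₁ r r', fun m => ⟨0, h₂ _ _⟩⟩

/-- **glueing**: invertible modules isomorphic on the intersection -/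
theorem exists_invertible_glue (hIJ : I ⊓ J = ⊥) {LY : I.subscheme.Modules} (hLY : PicF.IsInvertible LY)
    {LZ : J.subscheme.Modules} (hLZ : PicF.IsInvertible LZ)
    (θ : (Scheme.Modules.pullback (aW I J)).obj LY ≅ (Scheme.Modules.pullback (bW I J)).obj LZ) :
    ∃ (L : X.Modules), PicF.IsInvertible L ∧ Nonempty ((Scheme.Modules.pullback I.subschemeι).obj L ≅ LY) ∧
      Nonempty ((Scheme.Modules.pullback J.subschemeι).obj L ≅ LZ) := by
  have hloc : ∀ x : X, ∃ (U : X.Opens) (s : Γ(LY, I.subschemeι ⁻¹ᵁ U)) (t : Γ(LZ, J.subschemeι ⁻¹ᵁ U)),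
      x ∈ U ∧ IsGen s ∧ IsGen t ∧ θ.hom.app (wι I J ⁻¹ᵁ U) (pL I J LY s) = pR I J LZ t := by
    intro x
    obtain ⟨U₁, s₁, hx₁, hs₁⟩ := exists_gen_nbhd I.subschemeι hLY x
    obtain ⟨U₂, t₁, hx₂, ht₁⟩ := exists_gen_nbhd J.subschemeι hLZ x
    obtain ⟨U, hU, hxU, hUle⟩ := exists_isAffineOpen_mem_and_subset (x := x) (U := U₁ ⊓ U₂) ⟨hx₁, hx₂⟩
    replace hUle : U ≤ U₁ ⊓ U₂ := hUle
    let s := res LY (I.subschemeι.preimage_mono (hUle.trans inf_le_left)) s₁
    let t := res LZ (J.subschemeι.preimage_mono (hUle.trans inf_le_right)) t₁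
    have hs : IsGen s := hs₁.res _
    have ht : IsGen t := ht₁.res _
    have hT : IsGen (pR I J LZ t) := isGen_pR I J hLZ ht
    obtain ⟨c, hc⟩ := (hT _ le_rfl).2 (θ.hom.app (wι I J ⁻¹ᵁ U) (pL I J LY s))
    simp only [res_self] at hc
    have hcu : IsUnit c := isUnit_of_gen hT (by rw [hc]; exact isGen_app θ (isGen_pL I J hLY hs))
    obtain ⟨r, rfl⟩ := (I ⊔ J).subschemeι_app_surjective ⟨U, hU⟩ c
    by_cases hw : x ∈ Set.range (wι I J)
    · obtain ⟨z, rfl⟩ := hw
      have hxb : wι I J z ∈ X.basicOpen r := by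
        have : z ∈ (W I J).basicOpen ((Scheme.Hom.app (wι I J) U).hom r) := by
          rw [Scheme.basicOpen_of_isUnit _ hcu]; exact hxU
        rw [← Scheme.preimage_basicOpen] at this
        exact this
      have hle : X.basicOpen r ≤ U := X.basicOpen_le r
      have hr : IsUnit (resO X hle r) := RingedSpace.isUnit_res_basicOpen _ r
      refine ⟨X.basicOpen r, res LY (I.subschemeι.preimage_mono hle) s,
        (J.subschemeι.app _).hom (resO X hle r) • res LZ (J.subschemeι.preimage_mono hle) t, hxb, hs.res _,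
        isGen_smul_unit (ht.res _) (hr.map _), ?_⟩
      rw [pL_res (h := hle), pR_smul, toR_app, pR_res (h := hle), ← app_res, ← hc, res_smul,
        app_resO (h := hle)]
    · obtain ⟨U', hxU', hU'le, hU'⟩ : ∃ U' : X.Opens, x ∈ U' ∧ U' ≤ U ∧ ∀ z, wι I J z ∉ U' :=
        ⟨U ⊓ ⟨(Set.range (wι I J))ᶜ, (wι I J).isClosedEmbedding.isClosed_range.isOpen_compl⟩, ⟨hxU, hw⟩,
          inf_le_left, fun z h => h.2 ⟨z, rfl⟩⟩
      exact ⟨U', res LY (I.subschemeι.preimage_mono hU'le) s, res LZ (J.subschemeι.preimage_mono hU'le) t, hxU',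
        hs.res _, ht.res _, section_eq_of_locally fun z hz => absurd hz (hU' z)⟩
  choose U s t hxU hs ht hst using hloc
  let Rel : ∀ (p q : X) (V : X.Opens), V ≤ U p → V ≤ U q → Γ(X, V) → Prop := fun p q V hp hq r =>
    res LY (I.subschemeι.preimage_mono hp) (s p) =
        (I.subschemeι.app V).hom r • res LY (I.subschemeι.preimage_mono hq) (s q) ∧
      res LZ (J.subschemeι.preimage_mono hp) (t p) =
        (J.subschemeι.app V).hom r • res LZ (J.subschemeι.preimage_mono hq) (t q)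
  have huniq : ∀ p q V hp hq r r', Rel p q V hp hq r → Rel p q V hp hq r' → r = r' := by
    intro p q V hp hq r r' h h'
    exact sec_ext hIJ ((hs q _ _).1 (h.1.symm.trans h'.1)) ((ht q _ _).1 (h.2.symm.trans h'.2))
  have hex : ∀ p q V hp hq, ∃ r, Rel p q V hp hq r := by
    intro p q V hp hq
    obtain ⟨α, hα⟩ := (hs q _ (I.subschemeι.preimage_mono hq)).2 (res LY (I.subschemeι.preimage_mono hp) (s p))
    obtain ⟨β, hβ⟩ := (ht q _ (J.subschemeι.preimage_mono hq)).2 (res LZ (J.subschemeι.preimage_mono hp) (t p))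
    change α • _ = _ at hα
    change β • _ = _ at hβ
    have e₁ := congrArg (fun m => θ.hom.app (wι I J ⁻¹ᵁ V) (pL I J LY m)) hα
    have e₂ := congrArg (pR I J LZ) hβ
    simp only [pL_smul, Scheme.Modules.Hom.app_smul] at e₁
    rw [pL_res (h := hq), pL_res (h := hp), ← app_res, ← app_res, hst, hst] at e₁
    rw [pR_smul, pR_res (h := hq), pR_res (h := hp)] at e₂
    have he : toL I J V α = toR I J V β :=
      (isGen_pR I J hLZ (ht q) _ ((wι I J).preimage_mono hq)).1 (e₁.trans e₂.symm)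
    obtain ⟨r, hr₁, hr₂⟩ := sec_glue hIJ α β he
    refine ⟨r, ?_, ?_⟩
    · rw [hr₁]; exact hα.symm
    · rw [hr₂]; exact hβ.symm
  have hres : ∀ p q V hp hq r (V' : X.Opens) (h : V' ≤ V), Rel p q V hp hq r →
      Rel p q V' (h.trans hp) (h.trans hq) (resO X h r) := by
    intro p q V hp hq r V' h hr
    refine ⟨?_, ?_⟩
    · have := congrArg (res LY (I.subschemeι.preimage_mono h)) hr.1
      rwa [res_smul, res_res, res_res, ← app_resO] at this
    · have := congrArg (res LZ (J.subschemeι.preimage_mono h)) hr.2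
      rwa [res_smul, res_res, res_res, ← app_resO] at this
  have hmul : ∀ p q k V hp hq hk r r', Rel p q V hp hq r → Rel q k V hq hk r' → Rel p k V hp hk (r * r') := by
    intro p q k V hp hq hk r r' h h'
    refine ⟨?_, ?_⟩
    · rw [map_mul, mul_smul, ← h'.1]; exact h.1
    · rw [map_mul, mul_smul, ← h'.2]; exact h.2
  have hone : ∀ p V hp, Rel p p V hp hp 1 := fun p V hp =>
    ⟨((congrArg (· • _) (map_one _)).trans (one_smul _ _)).symm, ((congrArg (· • _) (map_one _)).trans (one_smul _ _)).symm⟩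
  choose η hη using fun p q => hex p q (U p ⊓ U q) inf_le_left inf_le_right
  have hηu : ∀ p q, IsUnit (η p q) := fun p q => by
    obtain ⟨r, hr⟩ := hex q p (U p ⊓ U q) inf_le_right inf_le_left
    exact IsUnit.of_mul_eq_one r (huniq p p (U p ⊓ U q) inf_le_left inf_le_left _ _
      (hmul p q p (U p ⊓ U q) inf_le_left inf_le_right inf_le_left _ _ (hη p q) hr) (hone p (U p ⊓ U q) inf_le_left))
  obtain ⟨σ, hσg, hσ⟩ := CocycleGlue.twisted_gen (X := X) (U := U) (η := fun p q => (hηu p q).unit)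
    fun p q k O h => huniq p k O ((h.trans inf_le_left).trans inf_le_left) (h.trans inf_le_right) _ _
      (hres p k (U p ⊓ U k) inf_le_left inf_le_right _ O
        (h.trans (inf_le_inf_right (U k) inf_le_left)) (hη p k))
      (hmul p q k O ((h.trans inf_le_left).trans inf_le_left) ((h.trans inf_le_left).trans inf_le_right)
        (h.trans inf_le_right) _ _
        (hres p q (U p ⊓ U q) inf_le_left inf_le_right _ O (h.trans inf_le_left) (hη p q))
        (hres q k (U q ⊓ U k) inf_le_left inf_le_right _ O (h.trans (inf_le_inf_right (U k) inf_le_right)) (hη q k)))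
  let L := (CocycleGlue.twisted X U (fun p q => (hηu p q).unit)).toModules
  have hσgen : ∀ p, IsGen (σ p) := hσg
  have hLi : PicF.IsInvertible L := Castel.isInvertible_of_gens _ fun x => ⟨U x, σ x, hxU x, hσgen x⟩
  have hsig : ∀ p q, res L (inf_le_left : U p ⊓ U q ≤ U p) (σ p) = η p q • res L inf_le_right (σ q) := fun p q =>
    hσ p q
  refine ⟨L, hLi, ?_, ?_⟩
  · refine ExtFund.nonempty_iso_of_gens (fun p => I.subschemeι ⁻¹ᵁ U p) (fun y => ⟨_, hxU (I.subschemeι y)⟩)
      (fun p => pullSect I.subschemeι L (U p) (σ p)) s (fun p => Nakai.isGen_pullSect _ hLi (hσgen p)) hs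
      fun p q V hp hq r hr => ?_
    have hle : V ≤ I.subschemeι ⁻¹ᵁ (U q ⊓ U p) := le_inf hq hp
    have e := congrArg (res _ hle) (congrArg (pullSect I.subschemeι L _) (hsig q p))
    rw [pullSect_smul, pullSect_res, pullSect_res, res_smul, res_res, res_res] at e
    have hreq : r = resO I.subscheme hle ((I.subschemeι.app (U q ⊓ U p)).hom (η q p)) :=
      (Nakai.isGen_pullSect I.subschemeι hLi (hσgen p) V hp).1 (hr.symm.trans e)
    have := congrArg (res LY hle) (hη q p).1
    rw [res_smul, res_res, res_res, ← hreq] at this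
    exact this
  · refine ExtFund.nonempty_iso_of_gens (fun p => J.subschemeι ⁻¹ᵁ U p) (fun y => ⟨_, hxU (J.subschemeι y)⟩)
      (fun p => pullSect J.subschemeι L (U p) (σ p)) t (fun p => Nakai.isGen_pullSect _ hLi (hσgen p)) ht
      fun p q V hp hq r hr => ?_
    have hle : V ≤ J.subschemeι ⁻¹ᵁ (U q ⊓ U p) := le_inf hq hp
    have e := congrArg (res _ hle) (congrArg (pullSect J.subschemeι L _) (hsig q p))
    rw [pullSect_smul, pullSect_res, pullSect_res, res_smul, res_res, res_res] at e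
    have hreq : r = resO J.subscheme hle ((J.subschemeι.app (U q ⊓ U p)).hom (η q p)) :=
      (Nakai.isGen_pullSect J.subschemeι hLi (hσgen p) V hp).1 (hr.symm.trans e)
    have := congrArg (res LZ hle) (hη q p).2
    rw [res_smul, res_res, res_res, ← hreq] at this
    exact this

end Groth.Agent.PicUnion
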